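import Cfsg.Agent.H950.UHerm
import Cfsg.Agent.S0126

/-!
# Cyclic Sylow `r`-subgroups of `SU_n(q)` and `PSU_n(q)` (S4884, helper876)

`e` is the order of `-q` modulo the odd prime `r` (`r ∤ q`), `n < 2 e`.
-/

set_option autoImplicit false

namespace Cfsg.Agent.H876.PB

open Cfsg Module Cfsg.Agent.H951 Cfsg.Agent.H950

section

variable {F : Type*} [Field F] [Fintype F] {q n r e : ℕ} [hr : Fact r.Prime]

theorem r_ne (hF : Fintype.card F = q ^ 2) (hrq : ¬ r ∣ q) : (r : F) ≠ 0 := by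
  intro h
  obtain ⟨p, hp⟩ := CharP.exists F
  have hpp : p.Prime := CharP.char_is_prime F p
  have h1 : p ∣ r := (CharP.cast_eq_zero_iff F p r).1 h
  have h2 : p = r := (Nat.prime_dvd_prime_iff_eq hpp hr.out).1 h1
  obtain ⟨m, -, hm⟩ := FiniteField.card F p
  have h3 : p ∣ q ^ 2 := by
    rw [← hF, hm]
    exact dvd_pow_self p m.ne_zero
  exact hrq (h2 ▸ hpp.dvd_of_dvd_pow h3)

theorem finrank_cm (hF : Fintype.card F = q ^ 2) (hrq : ¬ r ∣ q) (he : orderOf (-(q : ZMod r)) = e) (hn : n < 2 * e)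
    {z : Module.End F (Fin n → F)} (hz : Isom (hermForm n F q) z) (hzr : z ^ r = 1) (hz1 : z ≠ 1) :
    finrank F (cm z) = e := by
  have hr0 := r_ne (r := r) hF hrq
  have hfr : finrank F (Fin n → F) = n := Module.finrank_fin_fun F
  have hnd : Nd (hermForm n F q) (cm z) := by
    have h1 := hz.nd_inf_cm (frm_herm hF n) hr0 hzr (U := ⊤) (fun _ _ => Submodule.mem_top) (nd_top hF n)
    rwa [top_inf_eq] at h1
  have h1 := ord_neg_dvd hF hrq hz hzr (W := cm z) inv_cm hnd (inf_fx_of_le_cm hr0 hzr le_rfl)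
  rw [he] at h1
  have h2 : finrank F (cm z) ≤ n := by
    have := Submodule.finrank_le (cm z)
    rwa [hfr] at this
  have h3 : finrank F (cm z) ≠ 0 := by
    intro h
    have h4 : cm z = ⊥ := Submodule.finrank_eq_zero.1 h
    rw [cm, LinearMap.range_eq_bot, sub_eq_zero] at h4
    exact hz1 h4
  obtain ⟨k, hk⟩ := h1
  have hk1 : k = 1 := by
    rcases k with _ | _ | k
    · exact absurd (by rw [hk, Nat.mul_zero]) h3
    · rfl
    · exfalso
      have : 2 * e ≤ e * (k + 1 + 1) := by nlinarith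
      omega
  rw [hk, hk1, mul_one]

theorem fx_eq (hF : Fintype.card F = q ^ 2) (hrq : ¬ r ∣ q) (he : orderOf (-(q : ZMod r)) = e) (hn : n < 2 * e)
    {x z : Module.End F (Fin n → F)} (hx : Isom (hermForm n F q) x) (hxr : x ^ r = 1) (hx1 : x ≠ 1)
    (hz : Isom (hermForm n F q) z) (hzr : z ^ r = 1) (hz1 : z ≠ 1) (hc : Commute x z) : fx x = fx z := by
  have hr0 := r_ne (r := r) hF hrq
  have hfr : finrank F (Fin n → F) = n := Module.finrank_fin_fun F
  have h1 := finrank_cm hF hrq he hn hx hxr hx1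
  have h2 := finrank_cm hF hrq he hn hz hzr hz1
  have h3 := finrank_fx_add_cm hr0 hxr
  have h4 := finrank_fx_add_cm hr0 hzr
  rw [hfr] at h3 h4
  have hinv : Inv z (fx x) := by
    intro w hw
    rw [mem_fx] at hw ⊢
    have h5 : x (z w) = z (x w) := by
      rw [← Module.End.mul_apply, hc.eq, Module.End.mul_apply]
    rw [h5, hw]
  have hnd0 : Nd (hermForm n F q) (fx x) := by
    have h5 := hx.nd_inf_fx (frm_herm hF n) hr0 hxr (U := ⊤) (fun _ _ => Submodule.mem_top) (nd_top hF n)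
    rwa [top_inf_eq] at h5
  have hnd1 := hz.nd_inf_cm (frm_herm hF n) hr0 hzr hinv hnd0
  have hinv1 : Inv z (fx x ⊓ cm z) := fun w hw => ⟨hinv w hw.1, inv_cm w hw.2⟩
  have h5 := ord_neg_dvd hF hrq hz hzr (W := fx x ⊓ cm z) hinv1 hnd1 (inf_fx_of_le_cm hr0 hzr inf_le_right)
  rw [he] at h5
  have h6 : finrank F ↥(fx x ⊓ cm z) ≤ finrank F (fx x) := Submodule.finrank_mono inf_le_left
  have h7 : finrank F ↥(fx x ⊓ cm z) = 0 := by
    by_contra h
    have := Nat.le_of_dvd (Nat.pos_of_ne_zero h) h5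
    omega
  have h8 : fx x ⊓ cm z = ⊥ := Submodule.finrank_eq_zero.1 h7
  have h9 := inf_fx_sup_inf_cm hr0 hzr hinv
  rw [h8, sup_bot_eq] at h9
  apply Submodule.eq_of_le_of_finrank_eq (inf_eq_left.1 h9)
  omega

theorem avg_eq_zero (hF : Fintype.card F = q ^ 2) (hrq : ¬ r ∣ q) (he : orderOf (-(q : ZMod r)) = e) (hn : n < 2 * e)
    {x z : Module.End F (Fin n → F)} (hx : Isom (hermForm n F q) x) (hxr : x ^ r = 1) (hx1 : x ≠ 1)
    (hz : Isom (hermForm n F q) z) (hzr : z ^ r = 1) (hz1 : z ≠ 1) (hc : Commute x z) {v : Fin n → F} (hv : v ∈ cm x) :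
    avg z r v = 0 := by
  have hr0 := r_ne (r := r) hF hrq
  have h1 : avg z r v ∈ fx x := by
    rw [fx_eq hF hrq he hn hx hxr hx1 hz hzr hz1 hc, fx, LinearMap.mem_ker, ← Module.End.mul_apply,
      sub_one_mul_avg hzr, LinearMap.zero_apply]
  have hpow : ∀ k : ℕ, (z ^ k) v ∈ cm x := by
    intro k
    obtain ⟨w, rfl⟩ := mem_cm.1 hv
    refine mem_cm.2 ⟨(z ^ k) w, ?_⟩
    have h2 : x ((z ^ k) w) = (z ^ k) (x w) := by
      rw [← Module.End.mul_apply, (hc.pow_right k).eq, Module.End.mul_apply]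
    rw [h2, map_sub]
  have h2 : avg z r v ∈ cm x := by
    rw [avg, LinearMap.sum_apply]
    exact Submodule.sum_mem _ fun k _ => hpow k
  have h3 := (isCompl_fx_cm hr0 hxr).inf_eq_bot
  have h4 : avg z r v ∈ (⊥ : Submodule F (Fin n → F)) := by
    rw [← h3]
    exact ⟨h1, h2⟩
  exact (Submodule.mem_bot F).1 h4

theorem false_of_two (hF : Fintype.card F = q ^ 2) (hrq : ¬ r ∣ q) (he : orderOf (-(q : ZMod r)) = e) (hn : n < 2 * e)
    {x y : Module.End F (Fin n → F)} (hx : Isom (hermForm n F q) x) (hxr : x ^ r = 1) (hx1 : x ≠ 1)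
    (hy : Isom (hermForm n F q) y) (hyr : y ^ r = 1) (hc : Commute x y) (hne : ∀ j : ℕ, x ^ j * y ≠ 1) : False := by
  have hr0 := r_ne (r := r) hF hrq
  have hord : orderOf x = r := orderOf_eq_prime hxr hx1
  have key : ∀ v ∈ cm x, v = 0 := by
    intro v hv
    have hyv : ∀ k : ℕ, (y ^ k) v ∈ cm x := by
      intro k
      obtain ⟨w, rfl⟩ := mem_cm.1 hv
      refine mem_cm.2 ⟨(y ^ k) w, ?_⟩
      have h2 : x ((y ^ k) w) = (y ^ k) (x w) := by
        rw [← Module.End.mul_apply, (hc.pow_right k).eq, Module.End.mul_apply]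
      rw [h2, map_sub]
    have h1 : ∑ j ∈ Finset.range r, avg (x ^ j * y) r v = 0 := by
      apply Finset.sum_eq_zero
      intro j _
      have hcj : Commute (x ^ j) y := hc.pow_left j
      refine avg_eq_zero hF hrq he hn hx hxr hx1 ?_ ?_ (hne j) ?_ hv
      · intro u v
        rw [Module.End.mul_apply, Module.End.mul_apply, hx.pow j, hy]
      · rw [hcj.mul_pow, ← pow_mul, mul_comm j r, pow_mul, hxr, one_pow, one_mul, hyr]
      · exact ((Commute.refl x).pow_right j).mul_right hc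
    have h2 : ∑ j ∈ Finset.range r, avg (x ^ j * y) r v = ∑ k ∈ Finset.range r, avg (x ^ k) r ((y ^ k) v) := by
      simp only [avg, LinearMap.sum_apply]
      rw [Finset.sum_comm]
      refine Finset.sum_congr rfl fun k _ => Finset.sum_congr rfl fun j _ => ?_
      rw [(hc.pow_left j).mul_pow, ← pow_mul, ← pow_mul, mul_comm j k, Module.End.mul_apply]
    have h3 : ∑ k ∈ Finset.range r, avg (x ^ k) r ((y ^ k) v) = (r : F) • v := by
      rw [Finset.sum_eq_single 0]
      · rw [pow_zero, pow_zero, Module.End.one_apply, avg]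
        simp only [one_pow, Finset.sum_const, Finset.card_range, LinearMap.smul_apply, Module.End.one_apply]
        exact (Nat.cast_smul_eq_nsmul F r v).symm
      · intro k hk hk0
        refine avg_eq_zero hF hrq he hn hx hxr hx1 (hx.pow k) ?_ ?_ ((Commute.refl x).pow_right k) (hyv k)
        · rw [← pow_mul, mul_comm, pow_mul, hxr, one_pow]
        · intro h
          have h4 := orderOf_dvd_of_pow_eq_one h
          rw [hord] at h4
          exact absurd (Nat.le_of_dvd (Nat.pos_of_ne_zero hk0) h4) (not_le.2 (Finset.mem_range.1 hk))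
      · intro h
        exact absurd (Finset.mem_range.2 hr.out.pos) h
    rw [h2, h3] at h1
    exact (smul_eq_zero.1 h1).resolve_left hr0
  have h1 := finrank_cm hF hrq he hn hx hxr hx1
  have h2 : cm x = ⊥ := (Submodule.eq_bot_iff _).2 key
  rw [h2, finrank_bot] at h1
  omega

/-- **Cyclic Sylow subgroups of `SU_n(q)`** -/
theorem isCyclic_sylow_su (hF : Fintype.card F = q ^ 2) (hrq : ¬ r ∣ q) (hr2 : r ≠ 2)
    (he : orderOf (-(q : ZMod r)) = e) (hn : n < 2 * e) (P : Sylow r (SU n F q)) : IsCyclic P := by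
  by_contra hnc
  obtain ⟨A, -, ⟨hAc, hAr⟩, hA⟩ := Cfsg.Agent.S0126.result hr2 P.2 hnc
  have e1 : ∀ x y : SU n F q, Matrix.toLin' (((x * y : SU n F q) : Matrix.SpecialLinearGroup (Fin n) F) :
      Matrix (Fin n) (Fin n) F) = Matrix.toLin' ((x : Matrix.SpecialLinearGroup (Fin n) F) : Matrix (Fin n) (Fin n) F) *
        Matrix.toLin' ((y : Matrix.SpecialLinearGroup (Fin n) F) : Matrix (Fin n) (Fin n) F) := by
    intro x y
    rw [Module.End.mul_eq_comp, ← Matrix.toLin'_mul]
    rfl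
  let φ : SU n F q →* Module.End F (Fin n → F) :=
    { toFun := fun x => Matrix.toLin' ((x : Matrix.SpecialLinearGroup (Fin n) F) : Matrix (Fin n) (Fin n) F)
      map_one' := Matrix.toLin'_one
      map_mul' := e1 }
  have hφi : Function.Injective φ := by
    intro x y h
    exact Subtype.ext (Subtype.ext (Matrix.toLin'.injective h))
  have hφ : ∀ x : SU n F q, Isom (hermForm n F q) (φ x) := fun x => isom_of_SU x.2
  have hr1 := hr.out.one_lt
  obtain ⟨x, hxA, hx1⟩ : ∃ x ∈ A, x ≠ 1 := by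
    by_contra h
    push Not at h
    have h1 : A = ⊥ := (Subgroup.eq_bot_iff_forall A).2 h
    rw [h1, Subgroup.card_bot] at hA
    have h2 : 1 < r ^ 2 := Nat.one_lt_pow (by norm_num) hr1
    omega
  obtain ⟨y, hyA, hyx⟩ : ∃ y ∈ A, y ∉ Subgroup.zpowers x := by
    by_contra h
    push Not at h
    have h1 : Nat.card A ≤ Nat.card (Subgroup.zpowers x) :=
      Nat.card_le_card_of_injective (Subgroup.inclusion h) (Subgroup.inclusion_injective h)
    rw [hA, Nat.card_zpowers, orderOf_eq_prime (hAr x hxA) hx1] at h1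
    nlinarith
  have hcomm : Commute x y := by
    have := hAc.is_comm.comm ⟨x, hxA⟩ ⟨y, hyA⟩
    exact congrArg Subtype.val this
  have hx1' : ((x : (P : Subgroup (SU n F q))) : SU n F q) ≠ 1 := fun h => hx1 (Subtype.ext h)
  refine false_of_two hF hrq he hn (x := φ x) (y := φ y) (hφ _) ?_ ?_ (hφ _) ?_ ?_ ?_
  · rw [← map_pow, ← Subgroup.coe_pow, hAr x hxA, Subgroup.coe_one, map_one]
  · intro h
    exact hx1' (hφi (by rw [h, map_one]))
  · rw [← map_pow, ← Subgroup.coe_pow, hAr y hyA, Subgroup.coe_one, map_one]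
  · have h1 : Commute ((x : (P : Subgroup (SU n F q))) : SU n F q) y := congrArg Subtype.val hcomm
    exact h1.map φ
  · intro j h
    rw [← map_pow, ← map_mul] at h
    have h1 : ((x : (P : Subgroup (SU n F q))) : SU n F q) ^ j * y = 1 := hφi (by rw [h, map_one])
    have h2 : x ^ j * y = 1 := Subtype.ext h1
    apply hyx
    rw [← inv_eq_of_mul_eq_one_right h2]
    exact (Subgroup.zpowers x).inv_mem (Subgroup.npow_mem_zpowers x j)

/-- **Cyclic Sylow subgroups of `PSU_n(q)`** -/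
theorem isCyclic_sylow_psu (hF : Fintype.card F = q ^ 2) (hrq : ¬ r ∣ q) (hr2 : r ≠ 2)
    (he : orderOf (-(q : ZMod r)) = e) (hn : n < 2 * e) (P : Sylow r (PSU n F q)) : IsCyclic P := by
  have hs : Function.Surjective (QuotientGroup.mk' (Subgroup.center (SU n F q))) := QuotientGroup.mk'_surjective _
  obtain ⟨Q⟩ := (inferInstance : Nonempty (Sylow r (SU n F q)))
  have hQ := isCyclic_sylow_su hF hrq hr2 he hn Q
  have h1 : IsCyclic (Q.mapSurjective hs) := by
    have h2 : IsCyclic ((Q : Subgroup (SU n F q)).map (QuotientGroup.mk' (Subgroup.center (SU n F q)))) :=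
      isCyclic_of_surjective _ ((QuotientGroup.mk' (Subgroup.center (SU n F q))).subgroupMap_surjective _)
    exact h2
  exact isCyclic_of_surjective _ (Sylow.equiv (Q.mapSurjective hs) P).surjective

end

end Cfsg.Agent.H876.PB
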